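import Mathlib
import Cfsg.Agent.Lib.Comput.Check3
import Cfsg.Agent.Lib.LieModel.O73.P.Data

/-! generated by tools/cgt -/

set_option autoImplicit false
set_option maxRecDepth 100000
set_option Elab.async false

namespace CfsgLib.LieModel.O73.P

open CfsgLib.Comput

def R8_0 : RepC := ⟨33, 1, [],
  []⟩
def S8_0 : GenC := ⟨33, [],
  [(0, 0, 0, 1, 0), (0, 1, 0, 0, 0)], 0⟩
def L8 : Level := ⟨0x0, 0x100000000, [], 1, 9, 0, 2, [R8_0], [S8_0]⟩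
def X8 : Ext := []

def R7_0 : RepC := ⟨32, 1, [(33, 33)],
  [(135, 1, [1])]⟩
def S7_0 : GenC := ⟨32, [(33, 33)],
  [(0, 0, 0, 1, 0), (0, 1, 0, 0, 0)], 0⟩
def L7 : Level := ⟨0x100000000, 0x180000000, [33], 2, 5, 0, 2, [R7_0], [S7_0]⟩
def X7 : Ext := []

def R6_0 : RepC := ⟨31, 1, [(33, 33), (32, 32)],
  [(20, 1, [1, 2])]⟩
def S6_0 : GenC := ⟨31, [(33, 33)],
  [(0, 0, 0, 1, 0), (0, 1, 0, 0, 0)], 0⟩
def L6 : Level := ⟨0x180000000, 0x1e0000000, [32, 33], 4, 4, 0, 2, [R6_0], [S6_0]⟩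
def X6 : Ext := [(29, 0, 0x2021)]

def R5_0 : RepC := ⟨25, 1, [(32, 32), (31, 31), (33, 33)],
  [(38, 1, [1, 2, 3])]⟩
def R5_1 : RepC := ⟨26, 1, [(31, 31), (0x1f20, 0x1f20), (0x2021, 0x2021)],
  [(38, 1, [1, 2, 3])]⟩
def R5_2 : RepC := ⟨27, 1, [(33, 33), (31, 31), (32, 32)],
  [(194, 1, [1, 2, 3])]⟩
def R5_3 : RepC := ⟨0x1a19, 1, [(31, 31), (33, 33), (32, 32)],
  [(191, 1, [1, 2, 3])]⟩
def R5_4 : RepC := ⟨0x1b19, 1, [(33, 33), (31, 31), (32, 32)],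
  [(247, 1, [1, 2, 3])]⟩
def R5_5 : RepC := ⟨0x1b1a, 1, [(0x2021, 0x2021), (31, 31), (32, 32)],
  [(191, 1, [1, 2, 3])]⟩
def R5_6 : RepC := ⟨0x1b1a19, 1, [(32, 32), (33, 33), (31, 31)],
  [(219, 1, [1, 2, 3])]⟩
def S5_0 : GenC := ⟨25, [(32, 32)],
  [(0, 0, 0, 1, 0), (0, 1, 0, 0, 0), (0, 2, 0, 4, 0), (0, 3, 0, 5, 0), (0, 4, 0, 2, 0), (0, 5, 0, 3, 0), (0, 6, 0, 7, 0), (0, 7, 0, 6, 0)], 0⟩
def S5_1 : GenC := ⟨26, [(32, 32)],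
  [(0, 0, 0, 2, 0), (0, 1, 0, 4, 0), (0, 2, 0, 0, 0), (0, 3, 0, 6, 0), (0, 4, 0, 1, 0), (0, 5, 0, 7, 0), (0, 6, 0, 3, 0), (0, 7, 0, 5, 0)], 0⟩
def S5_2 : GenC := ⟨27, [(33, 33)],
  [(0, 0, 0, 3, 0), (0, 1, 0, 5, 0), (0, 2, 0, 6, 0), (0, 3, 0, 0, 0), (0, 4, 0, 7, 0), (0, 5, 0, 1, 0), (0, 6, 0, 2, 0), (0, 7, 0, 4, 0)], 0⟩
def L5 : Level := ⟨0x1e0000000, 0x1ff040000, [31, 32, 33], 8, 3, 0, 8, [R5_0, R5_1, R5_2, R5_3, R5_4, R5_5, R5_6], [S5_0, S5_1, S5_2]⟩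
def X5 : Ext := [(18, 0, 0x1b2021), (27, 0, 32), (28, 0, 0x1a1f20)]

def R4_0 : RepC := ⟨20, 1, [(26, 26), (0x1b21, 0x1b191f), (0x1920, 0x1f2021), (0x1b2021, 0x1b191f20), (31, 31), (0x1b1a20, 0x1a1920)],
  [(159, 1, [1, 2, 3, 4, 5, 6])]⟩
def R4_1 : RepC := ⟨21, 1, [(0x1b19, 0x1b1f21), (0x1b1a, 0x1a1f21), (31, 31), (0x1921, 0x1b191f), (33, 0x191f), (0x192021, 0x1b191f20)],
  [(43, 1, [1, 2, 3, 4, 5, 6])]⟩
def S4_0 : GenC := ⟨21, [(0x2021, 0x1b1f20)],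
  [(0, 0, 0, 2, 0), (0, 1, 0, 0, 0), (0, 2, 0, 1, 26)], 0⟩
def L4 : Level := ⟨0x1ff040000, 0x1fffc0000, [25, 26, 27, 31, 32, 33], 64, 126, 0, 3, [R4_0, R4_1], [S4_0]⟩
def X4 : Ext := [(19, 21, 0), (21, 0, 0x1419), (22, 22, 0), (23, 0, 32)]

def R3_0 : RepC := ⟨0x1110, 3, [(26, 0x1b1f20), (0x1a19, 0x1b191f20), (0x1921, 0x1a1920), (0x1a192021, 0x1b1a191f20), (0x1b1f, 33), (0x1a1f, 0x1b20)],
  [(261, 1, [1, 2, 3, 4, 5, 6])]⟩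
def R3_1 : RepC := ⟨15, 8, [(0x15191f, 0x15191f), (0x1f20, 0x1f20), (0x151b1a21, 0x151b1a21)],
  [(287, 3, [1, 2, 3])]⟩
def S3_0 : GenC := ⟨16, [(0x151920, 0x151920)],
  [(0, 0, 26, 2, 0x151b1f21), (0, 2, 0, 0, 0), (26, 2, 0, 2, 0x141b1920), (27, 2, 22, 2, 33), (23, 2, 0, 1, 0x141b1a191f2021), (0, 1, 25, 2, 0x1b191f)], 2⟩
def L3 : Level := ⟨0x1fffc0000, 0x1fffff000, [21, 25, 26, 27, 31, 32, 33], 192, 33, 0, 12, [R3_0, R3_1], [S3_0]⟩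
def X3 : Ext := [(14, 16, 0), (12, 0, 0x151b), (13, 13, 0), (16, 0, 0x17101b1a191f), (17, 17, 0)]

def R2_0 : RepC := ⟨0x111022, 12, [(0x141a191f21, 0xf111b1a1f2021), (0x141a19, 0xf111b20), (0x1b2021, 0x1b1a), (0x1b1f, 0x1b1f), (0x1a1f21, 0x1a1f20)],
  [(271, 2, [1, 2, 3, 4, 5]), (170, 2, [1])]⟩
def R2_1 : RepC := ⟨9, 32, [(33, 0x191f), (0x10142021, 0x1115191f2021), (0x13101521, 0x10151b191f2021)],
  [(199, 5, [1, 2, 3]), (135, 1, [1])]⟩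
def S2_0 : GenC := ⟨34, [(0x1b20, 0x1f2021), (0xf111a21, 0xf111520)],
  [(0, 0, 0x1210, 1, 0xf1121), (0, 2, 15, 1, 0xf1115191f21), (16, 2, 0x1920, 2, 0x19101a1f21), (0x1110, 1, 0, 0, 0x111021), (0, 1, 0, 1, 0x11101b2021), (16, 1, 16, 2, 0x1b10141a1f)], 7⟩
def L2 : Level := ⟨0x1fffff000, 0x7ffffff00, [16, 21, 25, 26, 27, 31, 32, 33], 2304, 2, 0, 45, [R2_0, R2_1], [S2_0]⟩
def X2 : Ext := [(34, 34, 0), (8, 0, 0x23211022151b1a1f2021), (9, 9, 0), (10, 0, 0xa22), (11, 11, 0)]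

def R1_0 : RepC := ⟨0xa2006, 45, [(0x111a191f, 0xc151b191f2021), (0xf1121, 0x12221b101b1a1f21), (0xf1420, 0x10221b101b1a2021), (0x11141a1921, 0xb1110141a1920)],
  [(44, 4, [1, 2, 3, 4]), (321, 4, [1, 2]), (237, 1, [1])]⟩
def R1_1 : RepC := ⟨7, 80, [(0xf0910151b1f20, 0x9231210151b1a191f20), (0xa12191f, 0xc1310141b1a1921), (0xa12101519, 0x9141b191f)],
  [(231, 6, [1, 2, 3]), (143, 4, [1, 2]), (17, 1, [1])]⟩
def S1_0 : GenC := ⟨6, [(0xb1210191f20, 0x92213101b1a1f2021), (0x11220f1419, 0x10222110151b1a1f)],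
  [(0, 0, 0x2009, 1, 0), (0x101522, 1, 0, 0, 0x170a1310141a21), (0, 1, 12, 1, 0x101522211014191f2021), (0, 2, 0xc15, 2, 0x15090f11151b1a1f21), (23, 2, 0xf1522, 1, 0x152211141a191f), (34, 1, 0x150a, 2, 0xf090f111b1a)], 6⟩
def L1 : Level := ⟨0x7ffffff00, 0x7fffffff0, [34, 16, 21, 25, 26, 27, 31, 32, 33], 103680, 1, 0, 126, [R1_0, R1_1], [S1_0]⟩
def X1 : Ext := [(4, 6, 0), (6, 0, 0xf0613060c220f151a19), (7, 7, 0)]

def R0_0 : RepC := ⟨0x60904, 126, [(0x12091310141a1920, 0x10160709231b10141b1a), (0x100a191019, 0x101607120b101b1a19), (0x1a0a21101521, 0x70f0620090f1b19), (0x1220091b, 0x130615091310141a191f)],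
  [(159, 4, [1, 2, 3, 4]), (264, 4, [1, 2, 3]), (324, 4, [1, 2]), (20, 1, [1])]⟩
def R0_1 : RepC := ⟨1, 224, [(0x120709231310191f, 0x808120b1110151b1921), (0xb0f23141b19, 0xa15061a0a13101b2021), (0x12061022101b1920, 0xa15060c221120), (0xf0805150912141f, 0x100611221021)],
  [(168, 4, [1, 2, 3, 4]), (299, 5, [1, 2, 3]), (195, 4, [1, 2]), (178, 1, [1])]⟩
def S0_0 : GenC := ⟨4, [(0xc200614091120, 0x20070f232110151b), (0x14080a141a21, 0x110609231910141a)],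
  [(0, 0, 0xb06, 1, 0xf20070f15221110151b1f2021), (0, 2, 0x120521, 2, 0x232006220911151b19), (18, 2, 0x80906, 1, 0x706170a11151b20), (0x2006, 1, 0, 0, 0x1605091110152021), (8, 1, 0x707, 2, 0x1f07060f221b19), (0, 1, 0x1e0806, 1, 0x20061110221310141b191f)], 11⟩
def L0 : Level := ⟨0x7fffffff0, 0x7ffffffff, [6, 34, 16, 21, 25, 26, 27, 31, 32, 33], 13063680, 0, 0, 351, [R0_0, R0_1], [S0_0]⟩
def X0 : Ext := [(2, 4, 0), (0, 0, 0x1604040607121b1a191f), (1, 1, 0)]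

def top : List ℕ := [1, 3]
def gs : List ℕ := [4, 6, 34, 16, 21, 25, 26, 27, 31, 32, 33]
def XD : Ext := [(1, 1, 0), (3, 3, 0), (4, 0, 0x20203030302030204010301), (5, 5, 0), (6, 0, 0x402020402040402040103), (7, 7, 0), (8, 0, 0x606070705070608080806), (9, 9, 0), (10, 0, 0x507060606080608080806), (11, 11, 0), (12, 0, 0x90b0b09090b0a0c09090b), (13, 13, 0), (14, 0, 0xb0a0c0a0a0c090b0a), (15, 15, 0), (16, 0, 0x90c0a0a0b0a0b0b), (17, 17, 0), (18, 0, 0x12100e1110), (19, 0, 0x100d110d0f), (20, 20, 0), (21, 0, 0x10120e110f), (22, 22, 0), (23, 0, 0xf0f0f), (24, 0, 0x1714), (25, 0, 0x151515), (26, 0, 0x1417), (27, 0, 0x141815), (28, 0, 0x15171713), (29, 0, 0x191b1913), (30, 0, 0x1b1c1a1d1b), (31, 0, 0x1a1c1a), (32, 0, 0x1e20), (33, 0, 0x90b), (34, 34, 0)]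
def MX : Level.MaxC := [[(0xb06, [0xf20070f15221110151b1f2021])], [(0xb060810, [0, 0x61a05091b10151b1f2021])]]
def NC : NclD := ⟨4, 13, [(0, [0x1213, 0x21b051009141921]), (2, [0x1620161f, 0x302041108050a0f151b1a1f2021])]⟩

/-- all the equations of the certificate -/
structure Eqs {G : Type*} [Group G] (g : ℕ → G) : Prop where
  l8 : AllHold g L8.eqns
  x8 : AllHold g X8.eqns
  l7 : AllHold g L7.eqns
  x7 : AllHold g X7.eqns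
  l6 : AllHold g L6.eqns
  x6 : AllHold g X6.eqns
  l5 : AllHold g L5.eqns
  x5 : AllHold g X5.eqns
  l4 : AllHold g L4.eqns
  x4 : AllHold g X4.eqns
  l3 : AllHold g L3.eqns
  x3 : AllHold g X3.eqns
  l2 : AllHold g L2.eqns
  x2 : AllHold g X2.eqns
  l1 : AllHold g L1.eqns
  x1 : AllHold g X1.eqns
  l0 : AllHold g L0.eqns
  x0 : AllHold g X0.eqns
  xd : AllHold g XD.eqns
  mx : AllHold g (L0.maxEqns MX)
  nc : AllHold g NC.eqns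

end CfsgLib.LieModel.O73.P
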